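import Groth.Agent.Cx47.Sys
import Mathlib.AlgebraicGeometry.Morphisms.Affine
import Mathlib.AlgebraicGeometry.Morphisms.Flat
import Mathlib.RingTheory.IsTensorProduct
import Mathlib.CategoryTheory.Preadditive.Biproducts

/-!
An affine morphism to a scheme with trivial global functions whose direct image of the structure sheaf is
free comes from the base.
-/

universe u

open CategoryTheory CategoryTheory.Limits AlgebraicGeometry TopologicalSpace Opposite
open scoped TensorProduct

set_option autoImplicit false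
set_option backward.isDefEq.respectTransparency.types false

noncomputable section

namespace Groth.Agent.Free47

/-- Coordinates mapping a module family to a basis give a base change. -/
theorem isPushout_of_basis {R A O B : Type u} [CommRing R] [CommRing A] [CommRing O] [CommRing B]
    [Algebra R A] [Algebra R O] [Algebra R B] [Algebra A B] [Algebra O B] [IsScalarTower R A B]
    [IsScalarTower R O B] {κ : Type*} (bA : Module.Basis κ R A) (bB : Module.Basis κ O B)
    (h : ∀ j, algebraMap A B (bA j) = bB j) : Algebra.IsPushout R O A B := by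
  constructor
  refine IsBaseChange.of_equiv ((bA.baseChange O).equiv bB (Equiv.refl κ)) fun x => ?_
  have : ((((bA.baseChange O).equiv bB (Equiv.refl κ)).toLinearMap.restrictScalars R).comp
      ((TensorProduct.mk R O A) 1)) = (IsScalarTower.toAlgHom R A B).toLinearMap := bA.ext fun j => by
    simp only [LinearMap.comp_apply, TensorProduct.mk_apply, LinearMap.restrictScalars_apply,
      LinearEquiv.coe_coe]
    rw [← Module.Basis.baseChange_apply, Module.Basis.equiv_apply]
    simpa using (h j).symm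
  exact LinearMap.congr_fun this x

variable {F P : Scheme.{u}} (f : F ⟶ P) {κ : Type u}
  (c : κ → ((Scheme.Modules.pushforward f).obj (SheafOfModules.unit F.ringCatSheaf) ⟶
    (SheafOfModules.unit P.ringCatSheaf : P.Modules)))

/-- A coordinate of a function on the preimage. -/
def coord (j : κ) (V : P.Opens) (b : Γ(F, f ⁻¹ᵁ V)) : Γ(P, V) := (c j).app V b

lemma coord_add (j : κ) (V : P.Opens) (a b : Γ(F, f ⁻¹ᵁ V)) :
    coord f c j V (a + b) = coord f c j V a + coord f c j V b :=
  map_add ((c j).app V).hom a b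

lemma coord_smul (j : κ) (V : P.Opens) (r : Γ(P, V)) (b : Γ(F, f ⁻¹ᵁ V)) :
    coord f c j V ((f.app V).hom r * b) = r * coord f c j V b :=
  (c j).app_smul r b

lemma coord_res (j : κ) {V V' : P.Opens} (h : V' ≤ V) (b : Γ(F, f ⁻¹ᵁ V)) :
    coord f c j V' ((F.presheaf.map (homOfLE (f.preimage_mono h)).op).hom b) =
      (P.presheaf.map (homOfLE h).op).hom (coord f c j V b) :=
  Cx47.res_app (c j) h b

/-- The coordinates are bijective on every open. -/
def IsCoord : Prop := ∀ V : P.Opens, Function.Bijective fun (b : Γ(F, f ⁻¹ᵁ V)) j => coord f c j V b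

/-- Coordinates from an isomorphism with a free module. -/
theorem exists_isCoord [Finite κ]
    (e : (Scheme.Modules.pushforward f).obj (SheafOfModules.unit F.ringCatSheaf) ≅
      ∐ fun _ : κ => (SheafOfModules.unit P.ringCatSheaf : P.Modules)) :
    ∃ c, IsCoord f (κ := κ) c := by
  let U : κ → P.Modules := fun _ => SheafOfModules.unit P.ringCatSheaf
  haveI : HasFiniteBiproducts P.Modules := HasFiniteBiproducts.of_hasFiniteProducts
  let β := e ≪≫ (biproduct.isoCoproduct U).symm ≪≫ biproduct.isoProduct U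
  refine ⟨fun j => β.hom ≫ Pi.π U j, fun V => ?_⟩
  have : IsIso (β.hom.app V) := ⟨β.inv.app V, congr($(β.hom_inv_id).app V), congr($(β.inv_hom_id).app V)⟩
  exact (Cx47.pi_sec_bijective U V).comp (ConcreteCategory.bijective_of_isIso (β.hom.app V))

variable [Finite κ] (hc : IsCoord f c)

include hc in
/-- Over a base with trivial global functions, the functions on preimages are the base change of the
global functions. -/
theorem isPushout_app {S : Scheme.{u}} (p : P ⟶ S) [hp : IsIso p.appTop] (V : P.Opens) :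
    IsPushout (f ≫ p).appTop (p.appLE ⊤ V le_top)
      (F.presheaf.map (homOfLE (le_top : f ⁻¹ᵁ V ≤ ⊤)).op) (f.app V) := by
  classical
  have := Fintype.ofFinite κ
  let res : Γ(F, ⊤) ⟶ Γ(F, f ⁻¹ᵁ V) := F.presheaf.map (homOfLE (le_top : f ⁻¹ᵁ V ≤ ⊤)).op
  algebraize [(f ≫ p).appTop.hom, (p.appLE ⊤ V le_top).hom, res.hom, (f.app V).hom]
  letI : Algebra Γ(S, ⊤) Γ(F, f ⁻¹ᵁ V) := ((f ≫ p).appTop ≫ res).hom.toAlgebra
  have hcomm : (f ≫ p).appTop ≫ res = p.appLE ⊤ V le_top ≫ f.app V := by
    simp [res, Scheme.Hom.appTop, Scheme.Hom.appLE]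
  have : IsScalarTower Γ(S, ⊤) Γ(F, ⊤) Γ(F, f ⁻¹ᵁ V) := IsScalarTower.of_algebraMap_eq' rfl
  have : IsScalarTower Γ(S, ⊤) Γ(P, V) Γ(F, f ⁻¹ᵁ V) :=
    IsScalarTower.of_algebraMap_eq' (congrArg CommRingCat.Hom.hom hcomm)
  let pinv : Γ(P, ⊤) ≃+* Γ(S, ⊤) := (asIso p.appTop).commRingCatIsoToRingEquiv.symm
  have hpinv : ∀ r, pinv (p.appTop r) = r := fun r => (asIso p.appTop).commRingCatIsoToRingEquiv.symm_apply_apply r
  let LA : Γ(F, ⊤) →ₗ[Γ(S, ⊤)] κ → Γ(S, ⊤) :=
    { toFun := fun a j => pinv (coord f c j ⊤ a)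
      map_add' := fun a b => funext fun j => (congrArg pinv (coord_add f c j ⊤ a b)).trans (map_add pinv _ _)
      map_smul' := fun r a => funext fun j => by
        change pinv (coord f c j ⊤ ((f.app ⊤).hom (p.appTop r) * (show Γ(F, f ⁻¹ᵁ ⊤) from a))) =
          r * pinv (coord f c j ⊤ a)
        rw [coord_smul, map_mul, hpinv] }
  let LB : Γ(F, f ⁻¹ᵁ V) →ₗ[Γ(P, V)] κ → Γ(P, V) :=
    { toFun := fun b j => coord f c j V b
      map_add' := fun a b => funext fun j => coord_add f c j V a b
      map_smul' := fun r b => funext fun j => coord_smul f c j V r b }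
  have hLA : Function.Bijective LA :=
    (Function.Bijective.piMap (fun _ => pinv.bijective)).comp (hc ⊤)
  let bA := Module.Basis.ofEquivFun (LinearEquiv.ofBijective LA hLA)
  let bB := Module.Basis.ofEquivFun (LinearEquiv.ofBijective LB (hc V))
  have key : ∀ j, algebraMap Γ(F, ⊤) Γ(F, f ⁻¹ᵁ V) (bA j) = bB j := fun j => by
    apply (LinearEquiv.ofBijective LB (hc V)).injective
    have hB : LinearEquiv.ofBijective LB (hc V) (bB j) = Pi.single j 1 := by
      simp [bB]
    rw [hB]
    have hA : LA (bA j) = Pi.single j 1 := by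
      change LinearEquiv.ofBijective LA hLA (bA j) = _
      simp [bA]
    funext i
    change coord f c i V ((F.presheaf.map (homOfLE (f.preimage_mono (le_top : V ≤ ⊤))).op).hom (bA j)) = _
    rw [coord_res f c i le_top]
    have hi : coord f c i ⊤ (bA j) = (Pi.single j (1 : Γ(P, ⊤)) : κ → Γ(P, ⊤)) i := by
      apply pinv.injective
      refine (congrFun hA i).trans ?_
      rw [Pi.single_apply, Pi.single_apply]
      split_ifs <;> simp
    rw [hi, Pi.single_apply, Pi.single_apply]
    split_ifs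
    · exact map_one _
    · exact map_zero _
  exact (CommRingCat.isPushout_iff_isPushout.mpr (isPushout_of_basis bA bB key)).flip

include hc in
/-- The morphism comes from the base. -/
theorem isPullback_toSpecΓ [IsAffineHom f] {S : Scheme.{u}} [IsAffine S] (p : P ⟶ S) [IsIso p.appTop] :
    IsPullback F.toSpecΓ f (Spec.map (f ≫ p).appTop ≫ S.isoSpec.inv) p := by
  let sp := Spec.map (f ≫ p).appTop ≫ S.isoSpec.inv
  have w : F.toSpecΓ ≫ sp = f ≫ p := by
    simp [sp, ← Scheme.toSpecΓ_naturality_assoc]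
  have : IsAffineHom sp := isAffineHom_of_isAffine _
  have : IsAffineHom (pullback.snd sp p) := MorphismProperty.pullback_snd _ _ ‹_›
  let cm : F ⟶ pullback sp p := pullback.lift F.toSpecΓ f w
  suffices IsIso cm from IsPullback.of_iso_pullback ⟨w⟩ (asIso cm) (pullback.lift_fst _ _ _) (pullback.lift_snd _ _ _)
  change MorphismProperty.isomorphisms Scheme cm
  let W : P.affineOpens → (pullback sp p).Opens := fun V => pullback.snd sp p ⁻¹ᵁ V.1
  have hWa : ∀ V, IsAffineOpen (W V) := fun V => V.2.preimage _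
  have hW : ⨆ V, W V = ⊤ := top_le_iff.1 fun x _ => by
    obtain ⟨_, ⟨V, hV, rfl⟩, hxV, -⟩ :=
      P.isBasis_affineOpens.exists_subset_of_mem_open (Set.mem_univ (pullback.snd sp p x)) isOpen_univ
    exact Opens.mem_iSup.2 ⟨⟨V, hV⟩, hxV⟩
  refine (HasAffineProperty.iff_of_iSup_eq_top (P := MorphismProperty.isomorphisms Scheme) (fun V => ⟨W V, hWa V⟩) hW).2
    fun V => ?_
  have hpre : cm ⁻¹ᵁ W V = f ⁻¹ᵁ V.1 :=
    congrArg (fun g : F ⟶ P => g ⁻¹ᵁ V.1) (pullback.lift_snd F.toSpecΓ f w)
  refine ⟨(show IsAffineOpen (cm ⁻¹ᵁ W V) from hpre ▸ V.2.preimage f), ?_⟩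
  have hsq := IsPullback.of_hasPullback sp p
  have hUY : W V = pullback.fst sp p ⁻¹ᵁ ⊤ ⊓ pullback.snd sp p ⁻¹ᵁ V.1 := by simp [W]
  have h1 := (isIso_pushoutSection_iff hsq (US := ⊤) (UT := V.1) (UX := ⊤) le_top le_top hUY).1
    (isIso_pushoutSection_of_isAffineOpen hsq le_top le_top hUY (isAffineOpen_top _) V.2 (isAffineOpen_top _))
  have h2 : IsPushout (sp.appLE ⊤ ⊤ le_top) (p.appLE ⊤ V.1 le_top)
      (F.toSpecΓ.appLE ⊤ (cm ⁻¹ᵁ W V) le_top) (f.appLE V.1 (cm ⁻¹ᵁ W V) hpre.le) := by
    refine (isPushout_app f c hc p V.1).of_iso (Iso.refl _) (Scheme.ΓSpecIso Γ(F, ⊤)).symm (Iso.refl _)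
      (F.presheaf.mapIso (eqToIso (congrArg op hpre.symm))) ?_ ?_ ?_ ?_
    · have hS : S.isoSpec.inv.appTop = (Scheme.ΓSpecIso Γ(S, ⊤)).inv := by
        have : IsIso S.isoSpec.hom.appTop := inferInstanceAs (IsIso (Scheme.Γ.map S.isoSpec.hom.op))
        rw [← cancel_mono S.isoSpec.hom.appTop, ← Scheme.Hom.comp_appTop, Iso.hom_inv_id,
          show S.isoSpec.hom = S.toSpecΓ from rfl, Scheme.toSpecΓ_appTop]
        simp
      have hsp : sp.appTop = (f ≫ p).appTop ≫ (Scheme.ΓSpecIso Γ(F, ⊤)).inv := by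
        rw [Scheme.Hom.comp_appTop, hS, Scheme.ΓSpecIso_inv_naturality]
      have hle : sp.appLE ⊤ ⊤ le_top = sp.appTop := sp.appLE_eq_app
      rw [hle, hsp]
      simp
    · simp
    · simp [Scheme.Hom.appLE]
      rw [← F.presheaf.map_comp]
      rfl
    · simp [Scheme.Hom.appLE]
      rfl
  have : IsIso (cm.app (W V)) := by
    have : cm.app (W V) = (h1.isoIsPushout _ _ h2).hom := by
      apply h1.hom_ext
      · rw [h1.inl_isoIsPushout_hom, ← cm.appLE_eq_app, Scheme.Hom.appLE_comp_appLE]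
        congr 1
        exact pullback.lift_fst _ _ _
      · rw [h1.inr_isoIsPushout_hom, ← cm.appLE_eq_app, Scheme.Hom.appLE_comp_appLE]
        congr 1
        exact pullback.lift_snd _ _ _
    rw [this]
    infer_instance
  have h' : IsIso (cm.app ((W V).ι ''ᵁ ⊤)) := by rw [Scheme.Opens.ι_image_top]; assumption
  rw [morphismRestrict_appTop]
  exact IsIso.comp_isIso' h' (Functor.map_isIso _ _)

/-- The morphism is the base change of its fibre at a section of the base. -/
theorem nonempty_iso_fibre {S : Scheme.{u}} {p : P ⟶ S} {T : Scheme.{u}} {toA : F ⟶ T} {sp : T ⟶ S}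
    (h : IsPullback toA f sp p) (s : S ⟶ P) (hs : s ≫ p = 𝟙 S) :
    Nonempty (Over.mk f ≅ Over.mk (pullback.snd (pullback.snd f s) p)) := by
  have h2 := (IsPullback.of_hasPullback f s).paste_horiz h
  let q := pullback.fst f s ≫ toA
  have h3 : IsPullback q (pullback.snd f s) sp (𝟙 S) := by rwa [hs] at h2
  have := h3.isIso_fst_of_isIso
  have h4 : IsPullback (toA ≫ inv q) f (pullback.snd f s) p :=
    h.of_iso (Iso.refl _) (asIso q).symm (Iso.refl _) (Iso.refl _) (by simp) (by simp) (by simp; exact h3.w.trans (Category.comp_id _)) (by simp)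
  exact ⟨Over.isoMk h4.isoPullback (by simp)⟩

end Groth.Agent.Free47
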